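import Groth.Agent.PullbackMod.Props
import Groth.Agent.QCohLib.FPSections

/-! Finiteness of a module and of its associated sheaf. -/

set_option autoImplicit false
set_option linter.style.haveILetI false
set_option backward.isDefEq.respectTransparency false

universe u

open CategoryTheory Limits Opposite TopologicalSpace AlgebraicGeometry
open scoped TensorProduct

noncomputable section

namespace Groth.Agent.TildeFinLib

/-- Finite presentation passes along a surjective algebra map. -/
theorem fp_of_surjective {R A N : Type u} [CommRing R] [CommRing A] [Algebra R A] [AddCommGroup N] [Module R N]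
    [Module A N] [IsScalarTower R A N] [Module.FinitePresentation R N]
    (hs : Function.Surjective (algebraMap R A)) : Module.FinitePresentation A N := by
  let φ : TensorProduct R A N →ₗ[A] N := LinearMap.liftBaseChange A LinearMap.id
  have h1 : ∀ z, (1 : A) ⊗ₜ[R] φ z = z := fun z => by
    induction z with
    | zero => rw [map_zero, TensorProduct.tmul_zero]
    | add x y hx hy => rw [map_add, TensorProduct.tmul_add, hx, hy]
    | tmul a n =>
      obtain ⟨r, rfl⟩ := hs a
      simp [φ, TensorProduct.tmul_smul, TensorProduct.smul_tmul', Algebra.smul_def]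
  exact Module.FinitePresentation.of_equiv (LinearEquiv.ofBijective φ
    ⟨fun x y h => by rw [← h1 x, ← h1 y, h], fun n => ⟨(1 : A) ⊗ₜ[R] n, by simp [φ]⟩⟩)

variable {R : CommRingCat.{u}} (M : ModuleCat.{u} R)

theorem bijective_algebraMap_top (R : CommRingCat.{u}) : Function.Bijective (algebraMap R Γ(Spec R, ⊤)) := by
  haveI : IsIso (CommRingCat.ofHom (algebraMap R Γ(Spec R, ⊤))) := by
    show IsIso ((Scheme.ΓSpecIso R).inv ≫ (Spec R).presheaf.map (homOfLE le_top).op)
    rw [show (homOfLE (le_top : (⊤ : (Spec R).Opens) ≤ ⊤)) = 𝟙 _ from rfl]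
    infer_instance
  exact ConcreteCategory.bijective_of_isIso (CommRingCat.ofHom (algebraMap R Γ(Spec R, ⊤)))

theorem isFT_tilde_iff : CohB1.IsFT (tilde M) ↔ Module.Finite R M := by
  haveI hq : Coh.IsQCoh (tilde M) := inferInstanceAs ((tilde M).IsQuasicoherent)
  constructor
  · intro h
    haveI := QCohLib.finite_sections (tilde M) h (isAffineOpen_top (Spec R))
    haveI : Module.Finite R Γ(Spec R, ⊤) :=
      Module.Finite.of_surjective (Algebra.linearMap R Γ(Spec R, ⊤)) (bijective_algebraMap_top R).2
    haveI : Module.Finite R Γ(tilde M, ⊤) := Module.Finite.trans Γ(Spec R, ⊤) _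
    haveI : Module.Finite R ((modulesSpecToSheaf.obj (tilde M)).presheaf.obj (op ⊤)) := this
    exact Module.Finite.equiv (tilde.isoTop M).toLinearEquiv.symm
  · intro h
    refine QCohLib.isFiniteType_of_finite _ (fun _ : PUnit => ⊤) (fun _ => isAffineOpen_top _) (iSup_const)
      fun _ => ?_
    haveI : Module.Finite R Γ(tilde M, ⊤) := Module.Finite.equiv (tilde.isoTop M).toLinearEquiv
    exact Module.Finite.of_restrictScalars_finite R _ _

theorem isFP_tilde_iff : CohB1.IsFP (tilde M) ↔ Module.FinitePresentation R M := by
  haveI hq : Coh.IsQCoh (tilde M) := inferInstanceAs ((tilde M).IsQuasicoherent)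
  constructor
  · intro h
    haveI := QCohLib.finitePresentation_sections (tilde M) h (isAffineOpen_top (Spec R))
    haveI : Module.FinitePresentation R Γ(Spec R, ⊤) :=
      Module.FinitePresentation.of_equiv (LinearEquiv.ofBijective (Algebra.linearMap R Γ(Spec R, ⊤))
        (bijective_algebraMap_top R))
    haveI : Module.FinitePresentation R Γ(tilde M, ⊤) := Module.FinitePresentation.trans R _ Γ(Spec R, ⊤)
    haveI : Module.FinitePresentation R ((modulesSpecToSheaf.obj (tilde M)).presheaf.obj (op ⊤)) := this
    exact Module.FinitePresentation.of_equiv (tilde.isoTop M).toLinearEquiv.symm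
  · intro h
    refine PullbackMod.isFP_of_finitePresentation _ (fun _ : PUnit => ⊤) (fun _ => isAffineOpen_top _) (iSup_const)
      fun _ => ?_
    haveI : Module.FinitePresentation R Γ(tilde M, ⊤) :=
      Module.FinitePresentation.of_equiv (tilde.isoTop M).toLinearEquiv
    exact fp_of_surjective (bijective_algebraMap_top R).2

end Groth.Agent.TildeFinLib
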